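import Groth.Agent.NormFin.Field
import Groth.Agent.FieldsMiscLib.Basic

/-! Finiteness of integral closures in reduced algebras of finite type over a field. -/

universe u

namespace NormFinVarLib

/-- Integral closures in fields of a finite type domain: the case of the fraction field of a domain. -/
theorem finite_closure_field (k R D : Type u) [Field k] [CommRing R] [Algebra k R] [Algebra.FiniteType k R]
    [CommRing D] [IsDomain D] [Algebra R D] [Algebra.FiniteType R D] :
    Module.Finite R (integralClosure R (FractionRing D)) := by
  let F := FractionRing D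
  let p : Ideal R := RingHom.ker (algebraMap R D)
  haveI : p.IsPrime := RingHom.ker_isPrime _
  let A := R ⧸ p
  haveI : Algebra.FiniteType k A := Algebra.FiniteType.of_surjective (Ideal.Quotient.mkₐ k p) Ideal.Quotient.mk_surjective
  letI : Algebra A D := (Ideal.Quotient.lift p (algebraMap R D) fun _ h => h).toAlgebra
  haveI : IsScalarTower R A D := IsScalarTower.of_algebraMap_eq fun _ => rfl
  haveI : FaithfulSMul A D := (faithfulSMul_iff_algebraMap_injective A D).2 (RingHom.kerLift_injective (algebraMap R D))
  haveI : IsScalarTower A D F := inferInstance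
  haveI : IsScalarTower R A F := IsScalarTower.of_algebraMap_eq fun x => by
    rw [IsScalarTower.algebraMap_apply R D F, IsScalarTower.algebraMap_apply A D F, ← IsScalarTower.algebraMap_apply R A D]
  haveI : FaithfulSMul A F := (faithfulSMul_iff_algebraMap_injective A F).2
    (by rw [IsScalarTower.algebraMap_eq A D F]; exact (IsFractionRing.injective D F).comp (FaithfulSMul.algebraMap_injective A D))
  let K := FractionRing A
  letI : Algebra K F := FractionRing.liftAlgebra A F
  haveI : IsScalarTower A K F := FractionRing.isScalarTower_liftAlgebra A F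
  haveI : Algebra.FiniteType A D := Algebra.FiniteType.of_restrictScalars_finiteType R A D
  haveI : Algebra.EssFiniteType D F := Algebra.EssFiniteType.of_isLocalization F (nonZeroDivisors D)
  haveI : Algebra.EssFiniteType A F := Algebra.EssFiniteType.comp A D F
  haveI : Algebra.EssFiniteType K F := Algebra.EssFiniteType.of_comp A K F
  haveI := FieldsMiscLib.algebraicClosure_finite_of_fg (k := K) (K := F) (IntermediateField.fg_top_iff.2 inferInstance)
  let E := algebraicClosure K F
  haveI hE : Module.Finite A (integralClosure A E) := NormFinLib.finite_integralClosure_of_finiteType_field k A K E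
  haveI : IsScalarTower A E F := IsScalarTower.of_algebraMap_eq fun a => by
    rw [IsScalarTower.algebraMap_apply A K E, IsScalarTower.algebraMap_apply A K F, ← IsScalarTower.algebraMap_apply K E F]
  have hmem : ∀ x ∈ integralClosure A F, x ∈ E := fun x hx =>
    mem_algebraicClosure_iff.2 (hx.tower_top.isAlgebraic)
  let ι : integralClosure A F →ₗ[A] integralClosure A E :=
    { toFun := fun x => ⟨⟨x.1, hmem x.1 x.2⟩,
        (isIntegral_algHom_iff ((IsScalarTower.toAlgHom A E F)) (FaithfulSMul.algebraMap_injective E F)).1 x.2⟩
      map_add' := fun _ _ => rfl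
      map_smul' := fun a x => Subtype.ext (Subtype.ext rfl) }
  haveI : IsNoetherianRing A := Algebra.FiniteType.isNoetherianRing k A
  haveI : IsNoetherian A (integralClosure A E) := isNoetherian_of_isNoetherianRing_of_finite A _
  haveI : Module.Finite A (integralClosure A F) :=
    Module.Finite.of_injective ι (fun x y h => Subtype.ext (congrArg (fun z : integralClosure A E => (z.1.1 : F)) h))
  haveI : Module.Finite R A := Module.Finite.of_surjective (Algebra.linearMap R A) Ideal.Quotient.mk_surjective
  haveI : Module.Finite R (integralClosure A F) := Module.Finite.trans A _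
  haveI : IsNoetherianRing R := Algebra.FiniteType.isNoetherianRing k R
  let j : integralClosure R F →ₗ[R] integralClosure A F :=
    { toFun := fun x => ⟨x.1, x.2.tower_top⟩
      map_add' := fun _ _ => rfl
      map_smul' := fun _ _ => rfl }
  haveI : IsNoetherian R (integralClosure A F) := isNoetherian_of_isNoetherianRing_of_finite R _
  exact Module.Finite.of_injective j (fun x y h => Subtype.ext (congrArg (fun z : integralClosure A F => (z.1 : F)) h))

/-- Finiteness passes to subalgebras of finite products. -/
theorem finite_closure_of_injective_pi {R S : Type u} [CommRing R] [IsNoetherianRing R] [CommRing S] [Algebra R S]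
    {ι : Type*} [Finite ι] (T : ι → Type u) [∀ i, CommRing (T i)] [∀ i, Algebra R (T i)]
    (φ : ∀ i, S →ₐ[R] T i) (hinj : ∀ x y, (∀ i, φ i x = φ i y) → x = y)
    (h : ∀ i, Module.Finite R (integralClosure R (T i))) : Module.Finite R (integralClosure R S) := by
  let j : integralClosure R S →ₗ[R] ∀ i, integralClosure R (T i) :=
    { toFun := fun x i => ⟨φ i x.1, x.2.map (φ i)⟩
      map_add' := fun x y => funext fun i => Subtype.ext (map_add (φ i) x.1 y.1)
      map_smul' := fun a x => funext fun i => Subtype.ext (map_smul (φ i) a x.1) }
  haveI := h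
  haveI : IsNoetherian R (∀ i, integralClosure R (T i)) := isNoetherian_of_isNoetherianRing_of_finite R _
  exact Module.Finite.of_injective j fun x y e =>
    Subtype.ext (hinj _ _ fun i => congrArg Subtype.val (congrFun e i))

/-- Integral closure in a reduced algebra of finite type. -/
theorem finite_closure_reduced (k R S : Type u) [Field k] [CommRing R] [Algebra k R] [Algebra.FiniteType k R]
    [CommRing S] [Algebra R S] [Algebra.FiniteType R S] [IsReduced S] : Module.Finite R (integralClosure R S) := by
  haveI : IsNoetherianRing R := Algebra.FiniteType.isNoetherianRing k R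
  haveI : IsNoetherianRing S := Algebra.FiniteType.isNoetherianRing R S
  haveI : Finite (minimalPrimes S) := (minimalPrimes.finite_of_isNoetherianRing S).to_subtype
  haveI : ∀ p : minimalPrimes S, p.1.IsPrime := fun p => p.2.1.1
  haveI : ∀ p : minimalPrimes S, Algebra.FiniteType R (S ⧸ p.1) := fun p =>
    Algebra.FiniteType.of_surjective (Ideal.Quotient.mkₐ R p.1) Ideal.Quotient.mk_surjective
  refine finite_closure_of_injective_pi (fun p : minimalPrimes S => FractionRing (S ⧸ p.1))
    (fun p => (IsScalarTower.toAlgHom R (S ⧸ p.1) (FractionRing (S ⧸ p.1))).comp (Ideal.Quotient.mkₐ R p.1))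
    (fun x y h => ?_) (fun p => finite_closure_field k R (S ⧸ p.1))
  have h0 : x - y ∈ sInf (minimalPrimes S) := Ideal.mem_sInf.2 fun {q} hq =>
    (Ideal.Quotient.eq).1 (IsFractionRing.injective (S ⧸ q) (FractionRing (S ⧸ q)) (h ⟨q, hq⟩))
  rw [show sInf (minimalPrimes S) = (⊥ : Ideal S).radical from Ideal.sInf_minimalPrimes] at h0
  obtain ⟨n, hn⟩ := h0
  exact sub_eq_zero.1 (IsReduced.eq_zero _ ⟨n, Ideal.mem_bot.1 hn⟩)

end NormFinVarLib
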