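import Groth.Prelude.Def_Found
import Groth.Agent.NormFinVarLib.Basic

/-! Finiteness of normalizations over Nagata schemes. -/

universe u
open CategoryTheory Limits AlgebraicGeometry

namespace NormFinVarLib

/-- Integral closures of a Nagata ring in fields essentially of finite type. -/
theorem finite_closure_ess (R F : Type u) [CommRing R] (hR : CAlg.IsNagata R) [Field F] [Algebra R F]
    [Algebra.EssFiniteType R F] : Module.Finite R (integralClosure R F) := by
  haveI := hR.1
  let p : Ideal R := RingHom.ker (algebraMap R F)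
  haveI : p.IsPrime := RingHom.ker_isPrime _
  let A := R ⧸ p
  letI : Algebra A F := (Ideal.Quotient.lift p (algebraMap R F) fun _ h => h).toAlgebra
  haveI : IsScalarTower R A F := IsScalarTower.of_algebraMap_eq fun _ => rfl
  haveI : FaithfulSMul A F := (faithfulSMul_iff_algebraMap_injective A F).2 (RingHom.kerLift_injective (algebraMap R F))
  let K := FractionRing A
  letI : Algebra K F := FractionRing.liftAlgebra A F
  haveI : IsScalarTower A K F := FractionRing.isScalarTower_liftAlgebra A F
  haveI : Algebra.EssFiniteType A F := Algebra.EssFiniteType.of_comp R A F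
  haveI : Algebra.EssFiniteType K F := Algebra.EssFiniteType.of_comp A K F
  haveI := FieldsMiscLib.algebraicClosure_finite_of_fg (k := K) (K := F) (IntermediateField.fg_top_iff.2 inferInstance)
  let E := algebraicClosure K F
  haveI hE : Module.Finite A (integralClosure A E) := hR.2 p E inferInstance
  haveI : IsScalarTower A E F := IsScalarTower.of_algebraMap_eq fun a => by
    rw [IsScalarTower.algebraMap_apply A K E, IsScalarTower.algebraMap_apply A K F, ← IsScalarTower.algebraMap_apply K E F]
  have hmem : ∀ x ∈ integralClosure A F, x ∈ E := fun x hx =>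
    mem_algebraicClosure_iff.2 (hx.tower_top.isAlgebraic)
  let ι : integralClosure A F →ₗ[A] integralClosure A E :=
    { toFun := fun x => ⟨⟨x.1, hmem x.1 x.2⟩,
        (isIntegral_algHom_iff ((IsScalarTower.toAlgHom A E F)) (FaithfulSMul.algebraMap_injective E F)).1 x.2⟩
      map_add' := fun _ _ => rfl
      map_smul' := fun a x => Subtype.ext (Subtype.ext rfl) }
  haveI : IsNoetherian A (integralClosure A E) := isNoetherian_of_isNoetherianRing_of_finite A _
  haveI : Module.Finite A (integralClosure A F) :=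
    Module.Finite.of_injective ι (fun x y h => Subtype.ext (congrArg (fun z : integralClosure A E => (z.1.1 : F)) h))
  haveI : Module.Finite R A := Module.Finite.of_surjective (Algebra.linearMap R A) Ideal.Quotient.mk_surjective
  haveI : Module.Finite R (integralClosure A F) := Module.Finite.trans A _
  let j : integralClosure R F →ₗ[R] integralClosure A F :=
    { toFun := fun x => ⟨x.1, x.2.tower_top⟩
      map_add' := fun _ _ => rfl
      map_smul' := fun _ _ => rfl }
  haveI : IsNoetherian R (integralClosure A F) := isNoetherian_of_isNoetherianRing_of_finite R _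
  exact Module.Finite.of_injective j (fun x y h => Subtype.ext (congrArg (fun z : integralClosure A F => (z.1 : F)) h))

/-- A criterion for finiteness of the normalization. -/
theorem isFinite_of_closure {X S : Scheme.{u}} (f : X ⟶ S) [QuasiCompact f] [QuasiSeparated f]
    (h : ∀ U : S.Opens, IsAffineOpen U →
      letI := (f.app U).hom.toAlgebra
      Module.Finite Γ(S, U) (integralClosure Γ(S, U) Γ(X, f ⁻¹ᵁ U))) :
    IsFinite f.fromNormalization := by
  refine (isFinite_iff _).2 ⟨inferInstance, fun U hU => ?_⟩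
  letI : Algebra Γ(S, U) Γ(X, f ⁻¹ᵁ U) := (f.app U).hom.toAlgebra
  rw [Scheme.Hom.fromNormalization_app f hU]
  exact (RingHom.Finite.of_surjective _ (f.normalizationObjIso hU).symm.commRingCatIsoToRingEquiv.surjective).comp
    (RingHom.finite_algebraMap.2 (h U hU))

/-- Normalization in a reduced scheme of finite type over a Nagata scheme. -/
theorem isFinite_fromNormalization_nagata {X S : Scheme.{u}} (f : X ⟶ S) [LocallyOfFiniteType f]
    [QuasiCompact f] [QuasiSeparated f] [IsReduced X] (hS : ∀ U : S.affineOpens, CAlg.IsNagata Γ(S, U)) :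
    IsFinite f.fromNormalization := by
  refine isFinite_of_closure f fun U hU => ?_
  have hN : CAlg.IsNagata Γ(S, U) := hS ⟨U, hU⟩
  haveI := hN.1
  letI : Algebra Γ(S, U) Γ(X, f ⁻¹ᵁ U) := (f.app U).hom.toAlgebra
  obtain ⟨t, htf, ht⟩ := isCompact_and_isOpen_iff_finite_and_eq_biUnion_affineOpens.1
    ⟨(f.isCompact_preimage hU.isCompact), (f ⁻¹ᵁ U).2⟩
  haveI : Finite t := htf.to_subtype
  have hle : ∀ V : t, (V.1.1 : X.Opens) ≤ f ⁻¹ᵁ U := fun V => by
    intro y hy
    show y ∈ ((f ⁻¹ᵁ U : X.Opens) : Set X)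
    rw [ht]
    exact Set.mem_biUnion V.2 hy
  letI : ∀ V : t, Algebra Γ(S, U) Γ(X, V.1.1) := fun V => (f.appLE U V.1.1 (hle V)).hom.toAlgebra
  haveI : ∀ V : t, Algebra.FiniteType Γ(S, U) Γ(X, V.1.1) := fun V =>
    RingHom.finiteType_algebraMap.1 (f.finiteType_appLE hU V.1.2 (hle V))
  refine finite_closure_of_injective_pi (fun V : t => Γ(X, V.1.1))
    (fun V => ⟨(X.presheaf.map (homOfLE (hle V)).op).hom, fun _ => rfl⟩) (fun x y h => ?_) (fun V => ?_)
  · refine X.IsSheaf.section_ext ?_
    intro p hp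
    have hp' : p ∈ ((f ⁻¹ᵁ U : X.Opens) : Set X) := hp
    rw [ht] at hp'
    obtain ⟨V, hV, hpV⟩ := Set.mem_iUnion₂.1 hp'
    exact ⟨V.1, hle ⟨V, hV⟩, hpV, h ⟨V, hV⟩⟩
  haveI : IsNoetherianRing Γ(X, V.1.1) := Algebra.FiniteType.isNoetherianRing Γ(S, U) _
  let D := Γ(X, V.1.1)
  haveI : Finite (minimalPrimes D) := (minimalPrimes.finite_of_isNoetherianRing D).to_subtype
  haveI : ∀ p : minimalPrimes D, p.1.IsPrime := fun p => p.2.1.1
  refine finite_closure_of_injective_pi (fun p : minimalPrimes D => FractionRing (D ⧸ p.1))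
    (fun p => (IsScalarTower.toAlgHom _ (D ⧸ p.1) (FractionRing (D ⧸ p.1))).comp (Ideal.Quotient.mkₐ _ p.1))
    (fun x y h => ?_) (fun p => ?_)
  · have h0 : x - y ∈ sInf (minimalPrimes D) := Ideal.mem_sInf.2 fun {q} hq =>
      (Ideal.Quotient.eq).1 (IsFractionRing.injective (D ⧸ q) (FractionRing (D ⧸ q)) (h ⟨q, hq⟩))
    rw [show sInf (minimalPrimes D) = (⊥ : Ideal D).radical from Ideal.sInf_minimalPrimes] at h0
    obtain ⟨n, hn⟩ := h0
    exact sub_eq_zero.1 (IsReduced.eq_zero _ ⟨n, Ideal.mem_bot.1 hn⟩)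
  · haveI : Algebra.EssFiniteType (D ⧸ p.1) (FractionRing (D ⧸ p.1)) :=
      Algebra.EssFiniteType.of_isLocalization _ (nonZeroDivisors (D ⧸ p.1))
    haveI : Algebra.EssFiniteType Γ(S, U) (FractionRing (D ⧸ p.1)) :=
      Algebra.EssFiniteType.comp _ (D ⧸ p.1) _
    exact finite_closure_ess _ _ hN

/-- Normalization over a Nagata scheme, with essentially finite type residue fields at generic points. -/
theorem isFinite_fromNormalization_generic {X S : Scheme.{u}} (f : X ⟶ S)
    [QuasiCompact f] [QuasiSeparated f] [IsReduced X]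
    (hS : ∀ U : S.affineOpens, CAlg.IsNagata Γ(S, U))
    (hfin : LocallyFinite (fun Z : ↥(irreducibleComponents ↥X) => (Z : Set ↥X)))
    (hres : ∀ x : X, closure {x} ∈ irreducibleComponents ↥X → (f.residueFieldMap x).hom.EssFiniteType) :
    IsFinite f.fromNormalization := by
  refine isFinite_of_closure f fun U hU => ?_
  have hN : CAlg.IsNagata Γ(S, U) := hS ⟨U, hU⟩
  haveI := hN.1
  letI : Algebra Γ(S, U) Γ(X, f ⁻¹ᵁ U) := (f.app U).hom.toAlgebra
  let G := {x : X // x ∈ f ⁻¹ᵁ U ∧ closure {x} ∈ irreducibleComponents ↥X}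
  haveI : Finite G := by
    have hc := hfin.finite_nonempty_inter_compact (f.isCompact_preimage hU.isCompact)
    haveI : Finite {Z : ↥(irreducibleComponents ↥X) // ((Z : Set X) ∩ (f ⁻¹' (U : Set S))).Nonempty} := hc.to_subtype
    refine Finite.of_injective (fun x : G => (⟨⟨closure {x.1}, x.2.2⟩, x.1, subset_closure rfl, x.2.1⟩ :
      {Z : ↥(irreducibleComponents ↥X) // ((Z : Set X) ∩ (f ⁻¹' (U : Set S))).Nonempty})) fun x y h => ?_
    have h' : closure {x.1} = closure {y.1} := congrArg (fun Z => (Z.1.1 : Set X)) h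
    exact Subtype.ext ((inseparable_iff_closure_eq.2 h').eq)
  letI : ∀ x : G, Algebra Γ(S, U) (X.residueField x.1) := fun x =>
    (f.app U ≫ X.evaluation (f ⁻¹ᵁ U) x.1 x.2.1).hom.toAlgebra
  refine finite_closure_of_injective_pi (fun x : G => (X.residueField x.1 : Type u))
    (fun x => ⟨(X.evaluation (f ⁻¹ᵁ U) x.1 x.2.1).hom, fun _ => rfl⟩) (fun a b h => ?_) (fun x => ?_)
  · rw [← sub_eq_zero]
    refine eq_zero_of_basicOpen_eq_bot (a - b) ?_
    by_contra hne
    obtain ⟨y, hy⟩ : ((X.basicOpen (a - b) : X.Opens) : Set X).Nonempty :=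
      (TopologicalSpace.Opens.ne_bot_iff_nonempty _).1 hne
    obtain ⟨η, hη⟩ := QuasiSober.sober (isIrreducible_irreducibleComponent (x := y)) isClosed_irreducibleComponent
    have hyη : η ⤳ y := hη.specializes mem_irreducibleComponent
    have hmem : η ∈ X.basicOpen (a - b) := hyη.mem_open (X.basicOpen (a - b)).2 hy
    have hU' : η ∈ f ⁻¹ᵁ U := X.basicOpen_le (a - b) hmem
    have hcomp : closure {η} ∈ irreducibleComponents ↥X := by
      rw [hη.def]; exact irreducibleComponent_mem_irreducibleComponents y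
    refine ((X.evaluation_eq_zero_iff_notMem_basicOpen η hU' (a - b)).1 ?_) hmem
    have e := h ⟨η, hU', hcomp⟩
    rw [map_sub]
    exact sub_eq_zero.2 e
  have h1 : (S.evaluation U (f x.1) x.2.1).hom.EssFiniteType := by
    letI := (S.presheaf.germ U (f x.1) x.2.1).hom.toAlgebra
    haveI := hU.isLocalization_stalk ⟨f x.1, x.2.1⟩
    have hg : (S.presheaf.germ U (f x.1) x.2.1).hom.EssFiniteType :=
      RingHom.essFiniteType_algebraMap.2 (Algebra.EssFiniteType.of_isLocalization _
        (hU.primeIdealOf ⟨f x.1, x.2.1⟩).asIdeal.primeCompl)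
    exact hg.comp (RingHom.FiniteType.of_surjective (S.residue (f x.1)).hom (S.residue_surjective (f x.1))).essFiniteType
  haveI : Algebra.EssFiniteType Γ(S, U) (X.residueField x.1) := by
    refine RingHom.essFiniteType_algebraMap.1 ?_
    show (f.app U ≫ X.evaluation (f ⁻¹ᵁ U) x.1 x.2.1).hom.EssFiniteType
    rw [← Scheme.evaluation_naturality f x.1 x.2.1]
    exact h1.comp (hres x.1 x.2.2)
  exact finite_closure_ess _ _ hN

end NormFinVarLib
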