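import Groth.Agent.NormFinVarLib.Basic

/-! Normalization of a reduced variety is finite. -/

universe u
open CategoryTheory Limits AlgebraicGeometry

namespace NormFinVarLib

theorem isFinite_fromNormalization (k : Type u) [Field k] {X Y : Scheme.{u}} (s : X ⟶ Spec (CommRingCat.of k))
    [LocallyOfFiniteType s] (f : Y ⟶ X) [LocallyOfFiniteType f] [IsReduced Y] [QuasiCompact f] [QuasiSeparated f] :
    IsFinite f.fromNormalization := by
  refine (isFinite_iff _).2 ⟨inferInstance, fun U hU => ?_⟩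
  letI : Algebra k Γ(X, U) := ((Scheme.ΓSpecIso (CommRingCat.of k)).inv ≫ s.appLE ⊤ U le_top).hom.toAlgebra
  haveI : Algebra.FiniteType k Γ(X, U) :=
    RingHom.finiteType_algebraMap.1 ((s.finiteType_appLE (isAffineOpen_top _) hU _).comp
      (RingHom.FiniteType.of_surjective _ (Scheme.ΓSpecIso (CommRingCat.of k)).symm.commRingCatIsoToRingEquiv.surjective))
  letI : Algebra Γ(X, U) Γ(Y, f ⁻¹ᵁ U) := (f.app U).hom.toAlgebra
  haveI hfin : Module.Finite Γ(X, U) (integralClosure Γ(X, U) Γ(Y, f ⁻¹ᵁ U)) := by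
    obtain ⟨t, htf, ht⟩ := isCompact_and_isOpen_iff_finite_and_eq_biUnion_affineOpens.1
      ⟨(f.isCompact_preimage hU.isCompact), (f ⁻¹ᵁ U).2⟩
    haveI : Finite t := htf.to_subtype
    have hle : ∀ V : t, (V.1.1 : Y.Opens) ≤ f ⁻¹ᵁ U := fun V => by
      intro y hy
      show y ∈ ((f ⁻¹ᵁ U : Y.Opens) : Set Y)
      rw [ht]
      exact Set.mem_biUnion V.2 hy
    letI : ∀ V : t, Algebra Γ(X, U) Γ(Y, V.1.1) := fun V => (f.appLE U V.1.1 (hle V)).hom.toAlgebra
    haveI : ∀ V : t, Algebra.FiniteType Γ(X, U) Γ(Y, V.1.1) := fun V =>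
      RingHom.finiteType_algebraMap.1 (f.finiteType_appLE hU V.1.2 (hle V))
    haveI : IsNoetherianRing Γ(X, U) := Algebra.FiniteType.isNoetherianRing k _
    refine finite_closure_of_injective_pi (fun V : t => Γ(Y, V.1.1))
      (fun V => ⟨(Y.presheaf.map (homOfLE (hle V)).op).hom, fun _ => rfl⟩) (fun x y h => ?_)
      (fun V => finite_closure_reduced k Γ(X, U) Γ(Y, V.1.1))
    refine Y.IsSheaf.section_ext ?_
    intro p hp
    have hp' : p ∈ ((f ⁻¹ᵁ U : Y.Opens) : Set Y) := hp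
    rw [ht] at hp'
    obtain ⟨V, hV, hpV⟩ := Set.mem_iUnion₂.1 hp'
    exact ⟨V.1, hle ⟨V, hV⟩, hpV, h ⟨V, hV⟩⟩
  rw [Scheme.Hom.fromNormalization_app f hU]
  exact (RingHom.Finite.of_surjective _ (f.normalizationObjIso hU).symm.commRingCatIsoToRingEquiv.surjective).comp
    (RingHom.finite_algebraMap.2 hfin)

end NormFinVarLib
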