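import Groth.Agent.LocFFLib.Basic
import Groth.Agent.NormFinVarLib.Nagata

/-! Normalization of a normal Noetherian scheme in a separable extension is finite. -/

universe u
open CategoryTheory Limits AlgebraicGeometry

namespace NormFinVarLib

theorem app_stalk {X : Scheme.{u}} {U : X.Opens} {x : X} (hx : x ∈ U) {L : CommRingCat.{u}}
    (φ : X.presheaf.stalk x ⟶ L) (htop : (Spec.map φ ≫ X.fromSpecStalk x) ⁻¹ᵁ U = ⊤) :
    (Spec.map φ ≫ X.fromSpecStalk x).app U ≫ (Spec L).presheaf.map (eqToHom htop.symm).op ≫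
      (Scheme.ΓSpecIso L).hom = X.presheaf.germ U x hx ≫ φ := by
  have h : (Spec.map φ ≫ X.fromSpecStalk x).appLE U ⊤ htop.ge ≫ (Scheme.ΓSpecIso L).hom =
      X.presheaf.germ U x hx ≫ φ := by
    rw [Scheme.Hom.comp_appLE, Scheme.fromSpecStalk_app hx]
    simp only [Category.assoc]
    rw [Scheme.Hom.map_appLE_assoc]
    refine congrArg (X.presheaf.germ U x hx ≫ ·) ?_
    rw [Iso.inv_comp_eq, ← Scheme.ΓSpecIso_naturality φ, Scheme.Hom.appTop, Scheme.Hom.app_eq_appLE]
    rfl
  exact (Category.assoc _ _ _).symm.trans h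

theorem isFinite_fromNormalization_separable {X : Scheme.{u}} [IsIntegral X] [IsNoetherian X]
    (hX : Pi1.IsNormalScheme X) (L : Type u) [Field L] [Algebra X.functionField L] [FiniteDimensional X.functionField L]
    [Algebra.IsSeparable X.functionField L]
    [QuasiCompact (Spec.map (CommRingCat.ofHom (algebraMap X.functionField L)) ≫ X.fromSpecStalk (genericPoint X))]
    [QuasiSeparated (Spec.map (CommRingCat.ofHom (algebraMap X.functionField L)) ≫ X.fromSpecStalk (genericPoint X))] :
    IsFinite (Spec.map (CommRingCat.ofHom (algebraMap X.functionField L)) ≫ X.fromSpecStalk (genericPoint X)).fromNormalization := by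
  set a := Spec.map (CommRingCat.ofHom (algebraMap X.functionField L))
  set f := a ≫ X.fromSpecStalk (genericPoint X) with hf
  refine isFinite_of_closure f fun U hU => ?_
  haveI : IsNoetherianRing Γ(X, U) := IsLocallyNoetherian.component_noetherian ⟨U, hU⟩
  letI : Algebra Γ(X, U) Γ(Spec (CommRingCat.of L), f ⁻¹ᵁ U) := (f.app U).hom.toAlgebra
  by_cases hne : Nonempty U
  · have hη : genericPoint X ∈ U := ((genericPoint_spec X).mem_open_set_iff U.isOpen).2 (by simpa using hne)
    haveI := functionField_isFractionRing_of_isAffineOpen X U hU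
    haveI : IsIntegrallyClosed Γ(X, U) := LocFFLib.isIntegrallyClosed_sections hX U
    letI : Algebra Γ(X, U) L := ((algebraMap X.functionField L).comp (algebraMap Γ(X, U) X.functionField)).toAlgebra
    haveI : IsScalarTower Γ(X, U) X.functionField L := IsScalarTower.of_algebraMap_eq fun _ => rfl
    haveI : Module.Finite Γ(X, U) (integralClosure Γ(X, U) L) :=
      IsIntegralClosure.finite Γ(X, U) X.functionField L (integralClosure Γ(X, U) L)
    have hall : ∀ z : Spec (CommRingCat.of L), z ∈ f ⁻¹ᵁ U := fun z => by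
      show f z ∈ U
      have hz : (a z) ⤳ IsLocalRing.closedPoint (X.presheaf.stalk (genericPoint X)) := IsLocalRing.specializes_closedPoint _
      have h := (hz.map (X.fromSpecStalk (genericPoint X)).continuous)
      rw [Scheme.fromSpecStalk_closedPoint] at h
      exact h.mem_open U.2 hη
    have htop : f ⁻¹ᵁ U = ⊤ := top_le_iff.1 fun z _ => hall z
    let r : Γ(Spec (CommRingCat.of L), f ⁻¹ᵁ U) ⟶ CommRingCat.of L :=
      (Spec (CommRingCat.of L)).presheaf.map (eqToHom htop.symm).op ≫ (Scheme.ΓSpecIso (CommRingCat.of L)).hom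
    have key : f.app U ≫ r = X.presheaf.germ U (genericPoint X) hη ≫ CommRingCat.ofHom (algebraMap X.functionField L) :=
      app_stalk hη (CommRingCat.ofHom (algebraMap X.functionField L)) htop
    exact finite_closure_of_injective_pi (fun _ : PUnit.{u + 1} => L)
      (fun _ => ⟨r.hom, fun s => congr($(key) s)⟩)
      (fun x y h => by
        haveI : IsIso r := by dsimp [r]; infer_instance
        exact (asIso r).commRingCatIsoToRingEquiv.injective (h PUnit.unit))
      (fun _ => inferInstance)
  · haveI : IsEmpty ↥(f ⁻¹ᵁ U) := ⟨fun z => hne ⟨⟨f z.1, z.2⟩⟩⟩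
    have hbot : f ⁻¹ᵁ U = ⊥ := le_bot_iff.1 fun z hz => (IsEmpty.false (⟨z, hz⟩ : ↥(f ⁻¹ᵁ U))).elim
    haveI : Subsingleton Γ(Spec (CommRingCat.of L), f ⁻¹ᵁ U) := by rw [hbot]; infer_instance
    infer_instance

end NormFinVarLib
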